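import Groth.Agent.CurvLib.Divisor
import Groth.Agent.CurvLib.StalkSum
import Groth.Agent.CurvLib.EulerTensor
import Groth.Agent.HilbPolyLib.Twist
import Groth.Agent.SDivLib.Stalk
import Groth.Agent.SDivLib.Divisor
import Groth.Agent.AVAmpleLib.CartierSection
import Groth.Agent.DiagTorLib.Geom
import Groth.Agent.IntMultLib.Cartier
import Groth.Agent.DvrLenLib.Stalks
import Groth.Agent.Ref1Lib.Ops
import Groth.Agent.CohGenLib.Twist

/-!
# Stalks of `F ⊗ O/J` and of the kernel of multiplication by a local equation
-/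

set_option autoImplicit false
set_option linter.style.haveILetI false
set_option linter.unusedSectionVars false

universe u

open CategoryTheory CategoryTheory.Limits AlgebraicGeometry TopologicalSpace Opposite
open DevissLib
open scoped TensorProduct

noncomputable section

namespace KoszIntLib

variable {X : Scheme.{u}}

/-- The unit germ of the structure sheaf. -/
def one' (x : X) : (St x).obj (Coh.structureModule X) :=
  gm (Coh.structureModule X) (U := ⊤) x trivial (1 : Γ(X, ⊤))

theorem one'_gm (x : X) {U : X.Opens} (hx : x ∈ U) (a : Γ(X, U)) :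
    X.presheaf.germ U x hx a • one' x = gm (Coh.structureModule X) x hx a := by
  rw [one', ← gm_map (Coh.structureModule X) (le_top : U ≤ ⊤) x hx, ← gm_smul]
  congr 1
  refine (congrArg (a * ·) (map_one (X.presheaf.map (homOfLE (le_top : U ≤ ⊤)).op).hom)).trans (mul_one a)

theorem one'_bijective (x : X) :
    Function.Bijective (fun c : X.presheaf.stalk x => c • one' x) := by
  have e : (fun c : X.presheaf.stalk x => c • one' x) = (CurvLib.stalkStructureEquiv x).symm ∘
      (· * CurvLib.stalkStructureEquiv x (one' x)) := funext fun c => by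
    simp only [Function.comp_apply]
    rw [show c * CurvLib.stalkStructureEquiv x (one' x) = c • CurvLib.stalkStructureEquiv x (one' x) from rfl,
      ← map_smul, LinearEquiv.symm_apply_apply]
  have hsurj : Function.Surjective (fun c : X.presheaf.stalk x => c • one' x) := fun a => by
    obtain ⟨U, hU, t, rfl⟩ := exists_gm_eq (Coh.structureModule X) x a
    exact ⟨X.presheaf.germ U x hU (show Γ(X, U) from t), one'_gm x hU _⟩
  refine ⟨?_, hsurj⟩
  obtain ⟨c, hc⟩ := hsurj ((CurvLib.stalkStructureEquiv x).symm 1)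
  have h1 : c * CurvLib.stalkStructureEquiv x (one' x) = 1 := by
    have := congrArg (CurvLib.stalkStructureEquiv x) hc
    rw [LinearEquiv.apply_symm_apply, map_smul] at this
    exact this
  rw [e]
  exact (CurvLib.stalkStructureEquiv x).symm.injective.comp fun a b h => by
    have hu : IsUnit (CurvLib.stalkStructureEquiv x (one' x)) := IsUnit.of_mul_eq_one_right _ h1
    exact hu.mul_left_injective h

theorem ker_toSubscheme (J : X.IdealSheafData) (x : X) (c : X.presheaf.stalk x) :
    ((St x).map (ClSub.toSubscheme J)).hom (c • one' x) = 0 ↔ c ∈ IntMult.stalkIdeal J x := by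
  obtain ⟨U, hU⟩ := SDivLib.exists_affine x
  constructor
  · intro hc
    have hx := (CurvLib.idealSeq_shortExact J).map_of_exact (St x)
    obtain ⟨b, hb⟩ := (ShortComplex.moduleCat_exact_iff _).mp hx.exact _ hc
    obtain ⟨W, hxW, t, rfl⟩ := exists_gm_eq (ClSub.idealMod J) x b
    obtain ⟨g, hgW, hxg⟩ := QCohLib.exists_basicOpen_nhd U.2 hxW hU
    let V : X.affineOpens := X.affineBasicOpen g
    let t' : Γ(ClSub.idealMod J, V.1) := (ClSub.idealMod J).presheaf.map (homOfLE hgW).op t
    have ht : (show Γ(X, V.1) from (ClSub.idealModι J).app V.1 t') ∈ J.ideal V :=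
      (IntMultLib.toSubscheme_app_eq_zero_iff J V _).mp
        (ConcreteCategory.congr_hom (congrArg (fun φ : ClSub.idealMod J ⟶ ClSub.quotMod J => φ.app V.1)
          (kernel.condition (ClSub.toSubscheme J))) t')
    have hc' : X.presheaf.germ V.1 x hxg (show Γ(X, V.1) from (ClSub.idealModι J).app V.1 t') = c := by
      refine (one'_bijective x).1 ((one'_gm x hxg _).trans (Eq.trans ?_ hb))
      exact ((gm_app (ClSub.idealModι J) x hxg t').symm.trans
        (congrArg ((St x).map (ClSub.idealModι J)).hom (gm_map _ hgW x hxg t)))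
    rw [← hc', SDivLib.stalkIdeal_eq J V hxg]
    exact Ideal.mem_map_of_mem _ ht
  · intro hc
    rw [SDivLib.stalkIdeal_eq J U hU] at hc
    induction hc using Submodule.span_induction with
    | mem c hc =>
      obtain ⟨a, ha, rfl⟩ := hc
      rw [show (X.presheaf.germ U.1 x hU).hom a • one' x = gm (Coh.structureModule X) x hU a from one'_gm x hU a,
        gm_app, (IntMultLib.toSubscheme_app_eq_zero_iff J U a).mpr ha, gm_zero]
    | zero => rw [zero_smul, map_zero]
    | add a b _ _ ha hb => rw [add_smul, map_add, ha, hb, add_zero]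
    | smul r a _ ha => rw [smul_assoc, map_smul, ha, smul_zero]

/-- The stalk of `O/J`. -/
theorem nonempty_stalk_quotMod (J : X.IdealSheafData) (x : X) :
    Nonempty ((St x).obj (ClSub.quotMod J) ≃ₗ[X.presheaf.stalk x]
      (X.presheaf.stalk x ⧸ IntMult.stalkIdeal J x)) := by
  let φ : X.presheaf.stalk x →ₗ[X.presheaf.stalk x] (St x).obj (ClSub.quotMod J) :=
    ((St x).map (ClSub.toSubscheme J)).hom.comp (LinearMap.toSpanSingleton _ _ (one' x))
  haveI := CurvLib.epi_toSubscheme J
  have hsurj : Function.Surjective φ :=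
    ((ModuleCat.epi_iff_surjective _).mp
      (inferInstance : Epi ((St x).map (ClSub.toSubscheme J)))).comp (one'_bijective x).2
  have hker : LinearMap.ker φ = IntMult.stalkIdeal J x := Submodule.ext fun c => ker_toSubscheme J x c
  exact ⟨((Submodule.quotEquivOfEq _ _ hker.symm).trans (φ.quotKerEquivOfSurjective hsurj)).symm⟩

/-- The stalk of `F ⊗ O/J`. -/
theorem nonempty_stalk_tensor_quot (F : X.Modules) (J : X.IdealSheafData) (x : X) :
    Nonempty ((St x).obj (CohB1.tensorMod F (ClSub.quotMod J)) ≃ₗ[X.presheaf.stalk x]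
      ((St x).obj F ⧸ (IntMult.stalkIdeal J x • ⊤ : Submodule (X.presheaf.stalk x) ((St x).obj F)))) := by
  obtain ⟨e⟩ := nonempty_stalk_quotMod J x
  exact ⟨(KFlatLib.stalkTensorIso F (ClSub.quotMod J) x).toLinearEquiv.symm ≪≫ₗ
    TensorProduct.congr (LinearEquiv.refl _ _) e ≪≫ₗ TensorProduct.tensorQuotEquivQuotSMul _ _⟩

theorem stalkIdeal_eq_top (J : X.IdealSheafData) {x : X} (hx : x ∉ (J.support : Set X)) :
    IntMult.stalkIdeal J x = ⊤ := by
  obtain ⟨e⟩ := nonempty_stalk_quotMod J x
  haveI : Subsingleton ((St x).obj (ClSub.quotMod J)) :=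
    not_not.mp fun h => hx (CurvLib.support_quotMod_subset J h)
  exact Ideal.Quotient.subsingleton_iff.mp e.symm.toEquiv.subsingleton

theorem stalkIdeal_le_maximal (J : X.IdealSheafData) {x : X} (hx : x ∈ (J.support : Set X)) :
    IntMult.stalkIdeal J x ≤ IsLocalRing.maximalIdeal (X.presheaf.stalk x) := by
  refine IsLocalRing.le_maximalIdeal fun h => ?_
  obtain ⟨e⟩ := nonempty_stalk_quotMod J x
  haveI : Subsingleton (X.presheaf.stalk x ⧸ IntMult.stalkIdeal J x) := Ideal.Quotient.subsingleton_iff.mpr h
  rw [← AVAmpleLib.support_quotMod J] at hx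
  exact hx e.toEquiv.subsingleton

theorem support_tensor_quot (F : X.Modules) (J : X.IdealSheafData) :
    CohB1.support (CohB1.tensorMod F (ClSub.quotMod J)) ⊆ (J.support : Set X) ∩ CohB1.support F :=
  fun x hx => ⟨CurvLib.support_quotMod_subset J (CohGenLib.support_tensor_subset _ _ hx),
    CohGenLib.support_tensor_subset (ClSub.quotMod J) F
      ((DevissLib.support_iso (HilbPolyLib.swapIso F (ClSub.quotMod J))).le hx)⟩

/-- Multiplication by a regular local equation is injective on stalks. -/
theorem injective_stalk_tensor (F : X.Modules) (J : X.IdealSheafData) {x : X} {a : X.presheaf.stalk x}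
    (ha : IntMult.stalkIdeal J x = Ideal.span {a}) (hreg : IsSMulRegular ((St x).obj F) a) :
    Function.Injective ((St x).map ((CurvLib.tensorLeft' F).map (ClSub.idealModι J))).hom := by
  let R := X.presheaf.stalk x
  let ι := ((St x).map (ClSub.idealModι J)).hom
  have hx := (CurvLib.idealSeq_shortExact J).map_of_exact (St x)
  have hι : Function.Injective ι := (ModuleCat.mono_iff_injective _).mp hx.mono_f
  obtain ⟨σ, hσ⟩ : ∃ σ, ι σ = a • one' x := (ShortComplex.moduleCat_exact_iff _).mp hx.exact _
    ((ker_toSubscheme J x a).mpr (ha ▸ Ideal.mem_span_singleton_self a))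
  have hgen : ∀ b, ∃ c : R, c • σ = b := fun b => by
    obtain ⟨d, hd⟩ := (one'_bijective x).2 (ι b)
    have hd' : d ∈ IntMult.stalkIdeal J x := (ker_toSubscheme J x d).mp (by
      dsimp only at hd
      rw [hd]
      exact congr($(((CurvLib.idealSeq J).map (St x)).zero).hom b))
    rw [ha] at hd'
    obtain ⟨c, rfl⟩ := Ideal.mem_span_singleton'.mp hd'
    refine ⟨c, hι ?_⟩
    rw [map_smul, hσ, ← mul_smul]
    exact hd
  have key : Function.Injective (ι.lTensor ((St x).obj F)) := by
    have hall : ∀ z : (St x).obj F ⊗[R] (St x).obj (ClSub.idealMod J), ∃ m, z = m ⊗ₜ[R] σ := fun z => by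
      induction z using TensorProduct.induction_on with
      | zero => exact ⟨0, (TensorProduct.zero_tmul _ _).symm⟩
      | tmul m b =>
        obtain ⟨c, rfl⟩ := hgen b
        exact ⟨c • m, (TensorProduct.smul_tmul c m σ).symm⟩
      | add u v hu hv =>
        obtain ⟨m, rfl⟩ := hu
        obtain ⟨n, rfl⟩ := hv
        exact ⟨m + n, (TensorProduct.add_tmul _ _ _).symm⟩
    refine (injective_iff_map_eq_zero _).mpr fun z hz => ?_
    obtain ⟨m, rfl⟩ := hall z
    let θ : R ≃ₗ[R] (St x).obj (Coh.structureModule X) :=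
      LinearEquiv.ofBijective (LinearMap.toSpanSingleton R _ (one' x)) (one'_bijective x)
    have hθ : θ.symm (one' x) = 1 := θ.symm_apply_eq.mpr (one_smul R _).symm
    rw [LinearMap.lTensor_tmul] at hz
    have h0 : TensorProduct.rid R _ (m ⊗ₜ[R] θ.symm (ι σ)) = 0 := by
      have := congrArg (θ.symm.toLinearMap.lTensor ((St x).obj F)) hz
      rw [LinearMap.lTensor_tmul, map_zero] at this
      exact (congrArg _ this).trans (map_zero _)
    rw [hσ, map_smul, hθ, TensorProduct.rid_tmul, smul_eq_mul, mul_one] at h0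
    rw [hreg.right_eq_zero_of_smul h0, TensorProduct.zero_tmul]
  let e₁ := (KFlatLib.stalkTensorIso F (ClSub.idealMod J) x).toLinearEquiv
  let e₂ := (KFlatLib.stalkTensorIso F (Coh.structureModule X) x).toLinearEquiv
  have hnat := KFlatLib.stalkTensorIso_natural_right (M := F) x (ClSub.idealModι J)
  intro u v h
  apply e₁.symm.injective
  apply key
  apply e₂.injective
  have h1 : ∀ w, e₂ (ι.lTensor ((St x).obj F) w) =
      ((St x).map ((CurvLib.tensorLeft' F).map (ClSub.idealModι J))).hom (e₁ w) := fun w => congr($(hnat).hom w)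
  rw [h1, h1, e₁.apply_symm_apply, e₁.apply_symm_apply, h]

/-- `F ⊗ J → F ⊗ O → F ⊗ O/J → 0` is exact. -/
theorem exact_tensor (F : X.Modules) (J : X.IdealSheafData) :
    ((CurvLib.idealSeq J).map (CurvLib.tensorLeft' F)).Exact ∧
      Epi ((CurvLib.idealSeq J).map (CurvLib.tensorLeft' F)).g := by
  let S := CurvLib.idealSeq J
  have hstalk : ∀ x : X, ((S.map (CurvLib.tensorLeft' F)).map (St x)).Exact ∧
      Function.Surjective ((St x).map ((CurvLib.tensorLeft' F).map S.g)).hom := fun x => by
    have hx := (CurvLib.idealSeq_shortExact J).map_of_exact (St x)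
    have hs := (ModuleCat.epi_iff_surjective _).mp hx.epi_g
    have he := (ShortComplex.ShortExact.moduleCat_exact_iff_function_exact (S.map (St x))).mp hx.exact
    let T := (S.map (St x)).map (MonoidalCategory.tensorLeft ((St x).obj F))
    have hT : T.Exact := (ShortComplex.ShortExact.moduleCat_exact_iff_function_exact T).mpr
      (lTensor_exact _ he hs)
    have i : T ≅ (S.map (CurvLib.tensorLeft' F)).map (St x) :=
      ShortComplex.isoMk (KFlatLib.stalkTensorIso F S.X₁ x) (KFlatLib.stalkTensorIso F S.X₂ x)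
        (KFlatLib.stalkTensorIso F S.X₃ x)
        (KFlatLib.stalkTensorIso_natural_right (M := F) x S.f).symm
        (KFlatLib.stalkTensorIso_natural_right (M := F) x S.g).symm
    refine ⟨ShortComplex.exact_of_iso i hT, fun c => ?_⟩
    let e₂ := (KFlatLib.stalkTensorIso F S.X₂ x).toLinearEquiv
    let e₃ := (KFlatLib.stalkTensorIso F S.X₃ x).toLinearEquiv
    obtain ⟨b, hb⟩ := LinearMap.lTensor_surjective ((St x).obj F) hs (e₃.symm c)
    exact ⟨e₂ b, (congr($(KFlatLib.stalkTensorIso_natural_right (M := F) x S.g).hom b)).symm.trans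
      ((congrArg e₃ hb).trans (e₃.apply_symm_apply c))⟩
  refine ⟨?_, ?_⟩
  · rw [ShortComplex.exact_iff_isZero_homology, KFlatLib.isZero_iff_forall_stalk]
    intro x
    exact ((ShortComplex.exact_iff_isZero_homology _).mp (hstalk x).1).of_iso
      ((S.map (CurvLib.tensorLeft' F)).mapHomologyIso (St x)).symm
  · rw [Preadditive.epi_iff_isZero_cokernel, KFlatLib.isZero_iff_forall_stalk]
    intro x
    haveI : Epi ((St x).map (S.map (CurvLib.tensorLeft' F)).g) :=
      (ModuleCat.epi_iff_surjective _).mpr (hstalk x).2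
    exact (isZero_cokernel_of_epi _).of_iso (PreservesCokernel.iso (St x) _)

theorem isClosed_singleton_of_finite [JacobsonSpace X] {T : Set X} (hT : T.Finite) (hTc : IsClosed T)
    {x : X} (hx : x ∈ T) : IsClosed ({x} : Set X) := by
  have h : T ∩ closedPoints X = T := by
    have hf : IsClosed (T ∩ closedPoints X) := by
      rw [← Set.biUnion_of_singleton (T ∩ closedPoints X)]
      exact (hT.inter_of_left _).isClosed_biUnion fun y hy => hy.2
    exact hf.closure_eq.symm.trans (JacobsonSpace.closure_inter_closedPoints hTc)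
  rw [← h] at hx
  exact hx.2

end KoszIntLib

end
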